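import Cfsg.Agent.Lib.Grp.SchurM.TailTable

/-! Data of a Sylow 11-subgroup of a group on 14080 points. -/

set_option autoImplicit false
set_option maxRecDepth 100000
set_option maxHeartbeats 8000000

open Cfsg.Agent.Grp.SchurM.Tails

namespace Cfsg.Agent.Spor.Cos.Fi22Mult

/-- Presentation. -/
def pc11 : PC where
  p := 11
  n := 1
  rhs := [[]]
  defs := []

/-- Words of the generators. -/
def ews11 : List (List ℕ) :=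
  [[4, 2, 3, 7, 8, 5, 4, 2, 3, 7, 4, 5, 1, 2, 3, 4, 0, 1, 2, 3, 7, 8, 4, 5, 3, 4, 1, 2, 3, 7, 6, 5, 4, 3, 2, 1, 0, 5, 3, 4, 1, 2, 3, 7, 8, 7, 3, 4, 2, 3, 7, 6, 5, 4, 3, 2, 1, 3, 4, 2, 3, 7, 8, 3, 7, 4, 5, 3, 4, 2, 3, 7, 6, 5, 4, 3, 2, 8, 7, 3, 8, 7, 5, 6, 4, 8]]

/-- Words of the conjugating elements. -/
def gws11 : List (List ℕ) :=
  [[1, 2, 5, 4, 3, 7, 8, 5, 4, 3, 7, 2, 3, 4, 5, 1, 2, 3, 4, 0, 1, 2, 3, 7, 8, 5, 3, 4, 1, 2, 3, 7, 6, 5, 4, 3, 2, 1, 0, 3, 4, 1, 2, 3, 7, 8, 7, 3, 4, 2, 3, 7, 6, 5, 4, 3, 2, 1, 7, 8, 5, 4, 3, 7, 6, 5, 4, 3, 2, 4, 3, 8, 7, 8]]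

/-- Conjugation data. -/
def conj11 : List Conj :=
  [(0, [0, 0, 0], [0])]

/-- Equations. -/
def eqs11 : List Eqn :=
  [.fus [0] [0, 0, 0, 0, 0, 0, 0, 0, 0, 0, 0] []]

/-- Combinations. -/
def combo11 : List (List ℕ) :=
  [[0, 0, 0, 0, 0, 0]]

/-- Base points. -/
def basePts11 : List ℕ := [0, 1, 2, 3, 67, 4, 5, 23]

/-- The certificate. -/
def tab11 : TableCert := ⟨pc11, ews11, gws11, conj11, ⟨eqs11, 1, combo11⟩, []⟩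

/-- Transversals along the base. -/
def lev11 : List (ℕ × List (List ℕ)) :=
  [(0, [[],
    [0, 0],
    [0, 0, 0, 0, 0, 0, 0, 0, 0],
    [0, 0, 0, 0, 0, 0, 0],
    [0, 0, 0],
    [0, 0, 0, 0, 0, 0],
    [0, 0, 0, 0],
    [0],
    [0, 0, 0, 0, 0, 0, 0, 0, 0, 0],
    [0, 0, 0, 0, 0],
    [0, 0, 0, 0, 0, 0, 0, 0]])]

end Cfsg.Agent.Spor.Cos.Fi22Mult
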