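import Cfsg.Agent.Lib.Spor.Cos.Fi22Mult.Levels
import Cfsg.Agent.Lib.Spor.Cos.Fi22.Order
import Cfsg.Agent.Lib.Spor.Cos.Fi22Mult.Data11


/-! A Sylow 11-subgroup with equations killing the tails. -/

set_option autoImplicit false
set_option maxRecDepth 100000
set_option maxHeartbeats 8000000

open Cfsg.Agent.Spor.Cos Cfsg.Agent.Grp.SchurM.Tails

namespace Cfsg.Agent.Spor.Cos.Fi22Mult

theorem tab11_rel : tab11.chkRel Fi22.actA Fi22Mult.basePts11 = true := by decide +kernel

theorem tab11_card : TableCert.chkLevels tab11 Fi22.actA lev11 [] = true := by decide +kernel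

theorem tab11_tails : tab11.K.check tab11.P tab11.C = true := by decide +kernel

/-- The certificate. -/
theorem sylow11 : Nonempty (SylowCert Cfsg.Spor.Fi22 11) :=
  haveI := Fi22.finite
  TableCert.sylowCert_levels Fi22.homA (base := Fi22Mult.basePts11) (by decide +kernel) Fi22.det Fi22.card_eq rfl
    (by decide) tab11_rel tab11_card (by decide +kernel) tab11_tails (le_of_eq rfl) (by decide +kernel)

end Cfsg.Agent.Spor.Cos.Fi22Mult
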