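import Cfsg.Agent.Lib.Grp.SchurM.TailTable

/-! Data of a Sylow 3-subgroup of a group on 14080 points. -/

set_option autoImplicit false
set_option maxRecDepth 100000
set_option maxHeartbeats 8000000

open Cfsg.Agent.Grp.SchurM.Tails

namespace Cfsg.Agent.Spor.Cos.Fi22Mult

/-- Presentation. -/
def pc3 : PC where
  p := 3
  n := 9
  rhs := [[],
    [0, 1, 3],
    [8],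
    [0, 2, 3, 3, 5, 5, 6, 7, 7, 8, 8],
    [1, 2, 4],
    [],
    [0, 3, 5],
    [1, 3, 6],
    [2, 3, 8],
    [],
    [0, 4, 6, 6, 7, 7],
    [1, 4, 8],
    [2, 4, 8],
    [3, 4, 8, 8],
    [],
    [0, 5],
    [1, 5, 7],
    [2, 5, 8, 8],
    [3, 5],
    [4, 5, 8],
    [],
    [0, 6, 7, 8, 8],
    [1, 6, 8, 8],
    [2, 6, 8, 8],
    [3, 6, 8, 8],
    [4, 6],
    [5, 6],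
    [],
    [0, 7],
    [1, 7, 8],
    [2, 7, 8, 8],
    [3, 7],
    [4, 7],
    [5, 7],
    [6, 7],
    [],
    [0, 8],
    [1, 8],
    [2, 8],
    [3, 8],
    [4, 8],
    [5, 8],
    [6, 8],
    [7, 8],
    []]
  defs := [(3, 1, 0), (4, 2, 1), (5, 3, 0), (6, 3, 1), (7, 5, 1), (8, 1, 1)]

/-- Words of the generators. -/
def ews3 : List (List ℕ) :=
  [[7, 8, 3, 4, 1, 2, 3, 7, 6, 5, 4, 3, 2, 1, 7, 8, 5, 4, 2, 3, 7, 6, 5, 4, 3, 2, 7, 3, 7],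
    [8, 4, 5, 6, 7, 8, 5, 4, 2, 3, 7, 4, 5, 2, 3, 4, 1, 2, 3, 7, 8, 7, 5, 3, 4, 1, 2, 3, 7, 6, 5, 4, 3, 2, 1, 7, 4, 3, 2, 8, 3, 7, 4, 3, 7, 4, 5, 6, 4],
    [8, 1, 2, 3, 1, 7, 5, 5, 6, 3, 4, 5, 2, 3, 4, 1, 2, 3, 7, 8, 7, 3, 4, 2, 3, 7, 5, 4, 3, 2, 1, 3, 2, 3, 7, 6],
    [7, 8, 2, 3, 7, 3, 4, 5, 2, 3, 4, 1, 2, 3, 7, 8, 3, 4, 1, 2, 3, 7, 6, 5, 4, 3, 2, 1, 4, 3, 7, 6, 5, 4, 3, 2, 3, 8, 7, 4, 5, 6, 5, 4, 5, 8],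
    [6, 4, 7, 1, 8, 2, 3, 7, 5, 6, 3, 4, 5, 2, 3, 4, 1, 2, 3, 7, 8, 7, 3, 4, 2, 3, 7, 5, 4, 3, 2, 1, 2, 3, 8, 7, 5, 6, 5, 4],
    [8, 7, 4, 5, 3, 4, 2, 3, 7, 8, 4, 5, 2, 3, 4, 1, 2, 3, 7, 6, 5, 4, 3, 2, 1, 7, 3, 4, 2, 3, 7, 8, 3, 7, 4, 5, 3, 4, 2, 3, 7, 6, 5, 4, 3, 2, 3, 7, 6, 4, 5, 8],
    [8, 7, 3, 4, 2, 3, 7, 8, 5, 4, 3, 7, 6, 5, 4, 3, 2, 1, 7, 3, 4, 2, 3, 7, 5, 4, 3, 2, 6, 5, 4, 3, 8, 7, 6, 4, 5, 8],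
    [7, 8, 3, 2, 3, 1, 6, 4, 3, 7, 2, 3, 4, 1, 2, 3, 7, 8, 7, 5, 3, 4, 1, 2, 3, 7, 6, 5, 4, 3, 2, 1, 3, 7, 8, 2, 3, 7, 6, 5, 4, 3, 2, 4, 3, 7, 6, 5, 4, 3, 7, 6, 5, 4, 8],
    [7, 8, 3, 7, 4, 5, 3, 4, 1, 2, 3, 7, 6, 5, 4, 3, 2, 1, 8, 2, 3, 7, 4, 3, 2, 4, 3, 7, 8, 5, 4, 3, 7, 6, 5, 4, 3, 8, 7, 4, 5, 6, 5, 4]]

/-- Words of the conjugating elements. -/
def gws3 : List (List ℕ) :=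
  [[2, 0, 5, 6, 3, 1, 5, 4, 2, 3, 7, 8, 4, 1, 2, 3, 7, 4, 5, 2, 3, 4, 0, 1, 2, 3, 7, 8, 5, 4, 1, 2, 3, 7, 6, 5, 4, 3, 2, 1, 0, 7, 5, 2, 3, 4, 1, 2, 3, 7, 8, 2, 3, 4, 1, 2, 3, 7, 6, 5, 4, 3, 2, 1, 3, 7, 6, 5, 4, 5],
    [6, 0, 1, 2, 3, 7, 8, 5, 4, 2, 3, 7, 5, 1, 2, 3, 4, 0, 1, 2, 3, 7, 8, 5, 2, 3, 4, 1, 2, 3, 7, 6, 5, 4, 3, 2, 1, 0, 5, 4, 1, 2, 3, 7, 8, 7, 4, 5, 3, 4, 2, 3, 7, 6, 5, 4, 3, 2, 1, 8, 5, 3, 4, 2, 3, 7, 6, 5, 4, 3, 2, 3, 6, 5, 4, 5, 8],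
    [6, 5, 4, 3, 0, 1, 2, 3, 7, 8, 4, 3, 7, 2, 3, 4, 5, 1, 2, 3, 4, 0, 1, 2, 3, 7, 8, 5, 3, 4, 2, 3, 7, 6, 5, 4, 3, 2, 1, 0, 7, 5, 3, 4, 1, 2, 3, 7, 8, 3, 4, 1, 2, 3, 7, 6, 5, 4, 3, 2, 1, 3, 7, 8, 2, 3, 7, 4, 3, 2, 8, 7, 3, 7, 5, 6, 5, 8],
    [7, 8, 2, 3, 7, 4, 5, 2, 3, 4, 1, 2, 3, 7, 8, 2, 3, 4, 1, 2, 3, 7, 6, 5, 4, 3, 2, 1, 8, 4, 2, 3, 7, 6, 5, 4, 3, 2, 4, 3, 8, 7, 6, 4, 5],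
    [6, 5, 4, 3, 7, 5, 2, 3, 4, 1, 2, 3, 7, 8, 5, 4, 1, 2, 3, 7, 6, 5, 4, 3, 2, 1, 3, 7, 5, 4, 3, 2, 3, 7, 6, 4, 5, 8],
    [8],
    [4, 5],
    [7, 8, 3, 7, 6, 5, 4, 3, 2, 3, 7, 4, 3, 8, 7, 6],
    [7, 1, 5, 3, 7, 8, 2, 3, 7, 4, 5, 1, 2, 3, 4, 0, 1, 2, 3, 7, 8, 7, 4, 5, 3, 4, 1, 2, 3, 7, 6, 5, 4, 3, 2, 1, 0, 8, 3, 7, 5, 2, 3, 4, 1, 2, 3, 7, 8, 5, 3, 4, 2, 3, 7, 6, 5, 4, 3, 2, 1, 8, 2, 3, 7, 5, 4, 3, 2, 6, 5, 4, 3, 8, 7, 5, 6, 4],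
    [5, 8, 4, 3, 4, 2, 3, 7, 8, 1, 2, 3, 7, 6, 4, 5, 3, 4, 0, 1, 2, 3, 7, 8, 4, 5, 3, 4, 1, 2, 3, 7, 6, 5, 4, 3, 2, 1, 0, 2, 3, 7, 8, 3, 4, 1, 2, 3, 7, 6, 5, 4, 3, 2, 1, 7, 8, 3, 4, 2, 3, 7, 5, 4, 3, 2, 8, 7, 5, 6, 5, 4, 5, 8],
    [6],
    [8],
    [8, 5, 6, 3, 1, 2, 3, 7, 8, 4, 0, 1, 2, 3, 7, 4, 5, 2, 3, 4, 0, 1, 2, 3, 7, 8, 5, 4, 1, 2, 3, 7, 6, 5, 4, 3, 2, 1, 0, 7, 5, 3, 4, 1, 2, 3, 7, 8, 4, 5, 2, 3, 4, 1, 2, 3, 7, 6, 5, 4, 3, 2, 1, 6, 5, 4, 3, 2, 7, 4, 5, 6, 8],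
    [4, 8, 1, 5, 7, 2, 3, 1, 0, 1, 2, 3, 7, 8, 4, 3, 7, 4, 5, 2, 3, 4, 0, 1, 2, 3, 7, 8, 5, 3, 4, 0, 1, 2, 3, 7, 6, 5, 4, 3, 2, 1, 0, 1, 2, 3, 7, 4, 5, 3, 4, 1, 2, 3, 7, 8, 3, 4, 1, 2, 3, 7, 6, 5, 4, 3, 2, 1, 4, 3, 7, 6, 5, 4, 3, 2, 8, 3, 7, 5, 4, 3, 7, 4, 5]]

/-- Conjugation data. -/
def conj3 : List Conj :=
  [(0, [4], [2]),
    (0, [8], [8]),
    (1, [2], [2, 4]),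
    (1, [8], [8]),
    (2, [3], [5, 5]),
    (2, [8], [8]),
    (3, [8], [8, 8]),
    (4, [5], [7, 7]),
    (5, [2], [2, 2]),
    (6, [7, 8], [5, 5]),
    (6, [8], [8]),
    (7, [5], [7, 8, 8]),
    (7, [0], [0]),
    (8, [0, 5], [5]),
    (5, [6], [4, 4, 6]),
    (5, [4], [4, 4]),
    (5, [7], [4, 4, 7]),
    (8, [5], [0, 5, 7, 7, 8]),
    (9, [8], [5, 6, 6]),
    (5, [4, 6], [4, 6]),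
    (5, [1], [1, 2]),
    (6, [5, 5, 7], [7, 7, 8]),
    (6, [2], [4]),
    (0, [6], [3, 4, 7, 7, 8]),
    (5, [3, 7], [2, 2, 3, 7]),
    (10, [8], [1, 2, 3, 4, 4, 5, 6, 7, 8]),
    (10, [7], [7]),
    (11, [1, 3, 8], [1, 3, 4, 8]),
    (11, [4], [4, 4]),
    (12, [1, 5, 5, 7, 8, 8], [2, 2, 3, 8]),
    (13, [5, 6, 7, 7], [1, 2, 3, 7]),
    (13, [5], [0, 3, 5, 5, 7, 7])]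

/-- Equations. -/
def eqs3 : List Eqn :=
  [.cons [1, 1, 1, 1] 0 1,
    .fus [0] [0, 0, 0] [],
    .fus [1, 0] [0, 1] [1, 0],
    .fus [2, 3] [0, 1] [1, 0],
    .fus [4] [0, 0, 0] [],
    .fus [4, 5] [0, 1] [1, 0],
    .fus [6] [0, 0, 0] [],
    .fus [7] [0, 0, 0] [],
    .fus [8] [0, 0, 0] [],
    .fus [9, 10] [0, 1] [1, 0],
    .cons [6, 5, 4] 0 1,
    .cons [7, 3, 0] 0 1,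
    .cons [7, 5, 4] 0 1,
    .fus [11, 12] [0, 1] [1, 0],
    .fus [13] [0, 0, 0] [],
    .fus [14, 15] [0, 1] [1, 0],
    .fus [16, 15] [0, 1] [1, 0],
    .cons [5, 1, 0] 0 1,
    .cons [5, 3, 1] 0 1,
    .cons [7, 1, 0] 0 1,
    .cons [7, 3, 1] 0 1,
    .cons [3, 3, 3, 0] 0 2,
    .fus [17, 13] [0, 1] [1, 0],
    .fus [18] [0, 0, 0] [],
    .cons [3, 1, 0] 0 1,
    .cons [3, 2, 1] 0 1,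
    .cons [5, 2, 1] 0 1,
    .fus [19, 20] [0, 1] [1, 0],
    .fus [21, 22] [0, 1] [1, 0],
    .fus [23, 0] [0, 1] [1, 0],
    .cons [6, 1, 0] 0 1,
    .cons [1, 1, 1, 0] 0 2,
    .fus [24, 8] [0, 1] [1, 0],
    .fus [25, 26] [0, 1] [1, 0],
    .fus [27, 28] [0, 1] [1, 0],
    .cons [2, 1, 0] 0 1,
    .fus [29] [0, 0, 0] [],
    .fus [30, 31] [0, 1] [1, 0]]

/-- Combinations. -/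
def combo3 : List (List ℕ) :=
  [[14],
    [],
    [],
    [0, 3, 3, 5, 5, 7, 8, 9, 12, 13, 15, 18, 21, 22, 27, 27, 28, 29, 30, 32, 32, 33, 36, 37, 37],
    [],
    [8, 8],
    [],
    [],
    [0, 4, 4, 5, 7, 7, 8, 8, 9, 9, 12, 16, 18, 18, 21, 21, 32, 32, 33, 33, 36, 36],
    [4, 21],
    [0, 3, 3, 4, 4, 9, 10, 10, 13, 15, 17, 18, 18, 19, 22, 23, 23, 26, 26, 30, 31, 31, 32, 35],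
    [0, 0, 2, 3, 3, 4, 4, 5, 5, 7, 7, 8, 8, 9, 10, 10, 12, 12, 16, 18, 18, 21, 21, 25, 25, 27, 29, 29, 32, 33, 33, 34, 36, 36],
    [0, 2, 3, 4, 4, 5, 7, 7, 8, 8, 9, 9, 15, 15, 16, 18, 18, 21, 21, 29, 29, 32, 33, 33, 36, 36],
    [0, 2, 2, 3, 3, 4, 5, 5, 6, 7, 8, 9, 10, 16, 16, 18, 21, 25, 27, 27, 29, 32, 32, 33, 36],
    [1, 8, 8],
    [9, 11, 11, 12, 22, 22],
    [],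
    [0, 0, 3, 3, 4, 5, 5, 6, 6, 7, 8, 9, 9, 16, 18, 21, 28, 28, 33, 36],
    [5, 5, 9, 9, 11, 11, 12, 12, 13, 13, 17, 17, 19, 22, 22],
    [3, 3, 4, 4, 5, 7, 7, 8, 8, 9, 9, 12, 12, 16, 16, 18, 18, 21, 21, 26, 26, 33, 33, 36, 36],
    [21, 21],
    [2, 2, 3, 4, 5, 5, 6, 7, 8, 9, 9, 10, 10, 11, 13, 13, 17, 17, 18, 20, 20, 21, 22, 22, 24, 30, 30, 36],
    [0, 2, 2, 3, 5, 5, 6, 6, 7, 8, 9, 10, 11, 11, 18, 20, 20, 21, 23, 23, 30, 30, 31, 31, 36],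
    [0, 0, 2, 2, 3, 3, 4, 5, 5, 6, 7, 8, 9, 10, 10, 15, 16, 16, 18, 21, 27, 27, 29, 32, 32, 33, 36],
    [2, 2, 3, 4, 5, 6, 7, 8, 9, 9, 10, 11, 11, 12, 18, 18, 19, 19, 20, 21, 30, 30, 36],
    [15, 15],
    [],
    [6, 21, 21, 23],
    [5, 10, 11, 11, 13, 13, 18, 18, 19, 20, 22, 22],
    [0, 2, 3, 3, 4, 4, 5, 7, 7, 8, 8, 9, 9, 11, 12, 12, 21, 21, 36, 36],
    [0, 0, 4, 5, 5, 6, 7, 8, 9, 12, 16, 16, 18, 21, 33, 36],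
    [5, 5, 9, 10, 12, 18, 18, 20],
    [16, 16],
    [11, 11],
    [5, 9, 9, 10, 10, 12, 12, 20, 20],
    [7, 21],
    [5, 9, 9, 10, 12, 12, 18, 18, 19, 20],
    [0],
    [2, 2, 3],
    [5, 5, 9, 12],
    [3],
    [9, 9, 12, 12],
    [10],
    [12],
    [6, 6]]

/-- Base points. -/
def basePts3 : List ℕ := [0, 1, 2, 3, 67, 4, 5, 23]

/-- The certificate. -/
def tab3 : TableCert := ⟨pc3, ews3, gws3, conj3, ⟨eqs3, 26, combo3⟩, []⟩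

/-- Transversals along the base. -/
def lev3 : List (ℕ × List (List ℕ)) :=
  [(8047, [[],
    [0],
    [1]]),
    (4234, [[],
    [4, 8],
    [4, 4, 8, 8],
    [0, 1, 3, 5, 5, 6, 7, 7, 8],
    [0, 1, 3, 4, 5, 5, 6, 7, 7, 8],
    [2, 4, 4, 8],
    [0, 1, 3, 4, 4, 5, 5, 6, 7, 7, 8],
    [2, 8, 8],
    [2, 4]]),
    (4, [[],
    [6, 7, 7, 8, 8],
    [6, 6, 7, 8],
    [0, 1, 2, 3, 4, 5, 6, 7],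
    [0, 1, 2, 3, 4, 5, 6, 6, 7, 8],
    [0, 1, 2, 3, 4, 5, 5, 7, 8],
    [3, 4, 4, 6, 6, 7, 7],
    [0, 1, 2, 3, 4, 6, 6, 7, 7, 8],
    [0, 1, 2, 3, 4, 5, 6, 8],
    [0, 1, 2, 3, 4, 5, 6, 6, 7, 7],
    [0, 1, 2, 3, 4, 5, 6, 8, 8],
    [5, 6, 6, 7],
    [5, 5, 6, 7, 7],
    [7],
    [3, 4, 4, 6, 6, 7, 7, 8],
    [3, 4, 4, 5, 6],
    [0, 0, 1, 1, 2, 2, 3, 3, 5, 5, 8],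
    [0, 1, 2, 3, 4, 5, 6, 6, 8, 8],
    [0, 1, 2, 3, 4, 5, 6, 7, 8],
    [8, 8],
    [3, 3, 4, 6, 7, 8, 8],
    [8],
    [7, 8, 8],
    [3, 4, 4, 7, 8],
    [3, 4, 4, 6, 6, 8, 8],
    [6, 7, 7],
    [3, 4, 4, 7, 8, 8]]),
    (18, [[],
    [3, 4, 4, 7, 7, 8],
    [5, 5, 6, 7, 8, 8],
    [0, 1, 2, 4, 4, 6, 7, 8],
    [0, 1, 2, 3, 4, 5, 7, 7],
    [3, 4, 4, 5, 6, 6, 7, 8, 8],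
    [5, 6, 6, 7, 7, 8],
    [0, 0, 1, 1, 2, 2, 4, 4, 5, 5, 6, 7, 7, 8],
    [0, 1, 2, 3, 4, 6, 8, 8]]),
    (1, [[],
    [0, 0, 1, 1, 2, 2, 3, 4, 5, 6, 6, 7, 7, 8, 8],
    [0, 1, 2, 3, 3, 6, 7, 7, 8]])]

end Cfsg.Agent.Spor.Cos.Fi22Mult
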