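import Cfsg.Agent.Lib.Spor.Cos.Fi22Mult.Levels
import Cfsg.Agent.Lib.Spor.Cos.Fi22.Order
import Cfsg.Agent.Lib.Spor.Cos.Fi22Mult.Data3
import Cfsg.Agent.Lib.Spor.Cos.Sift
import Cfsg.Agent.Lib.Grp.SchurM.TailCheck

/-! A Sylow 3-subgroup with equations killing the tails. -/

set_option autoImplicit false
set_option maxRecDepth 100000
set_option maxHeartbeats 8000000

open Cfsg.Agent.Spor.Cos Cfsg.Agent.Grp.SchurM.Tails

namespace Cfsg.Agent.Spor.Cos.Fi22Mult

theorem tab3_rel : tab3.chkRel Fi22.actA Fi22Mult.basePts3 = true := by decide +kernel

theorem tab3_card : TableCert.chkLevels tab3 Fi22.actA lev3 [] = true := by decide +kernel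

/-- Counts of the tails. -/
def counts3 : List ℕ := [0x10000000000000000000000000000000000000,
    0x100000000200000,
    0x10200000000000000000000000000000000000000,
    0x10000000000000000000000000000000000000000,
    0x100000000001000000000,
    0x202000000000000000000000000000000000000000,
    0x200000000000000000000000000000000000000000000,
    0x100000000000000100000000000000000000,
    0x200000,
    0x20200000000000000000000000000000000000000000,
    0x1000000000000000000000000000000000000000000,
    0x2000000000000000000000000000000000,
    0x10000000000000000000000000000000000000000000,
    0x1000000020000000000001000000000000000,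
    0x1,
    0x20000000000000000000000000,
    0x200000000000000000000000000000000,
    0x20010000000002000000000000000000,
    0x20020000100000000000000000000000000,
    0x2001000020000000000000000000000000000000,
    0x2002000020000000000000000000000000000000000,
    0x200000000000000000000,
    0x200000001000000000000000002000000000000000,
    0x100000000000000001000000200000000000000000000,
    0x10000000000020000202001002020000000000000000,
    0x1000010000000000020200000000010000000000000,
    0x200020020000202000000000020000000000000000000,
    0x202000000000000000000200000000002000000000000,
    0x210220000000101000000000000200000000000000000,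
    0x100020200000001000010000000000002000200000000,
    0x220001012000020200002000000000000000000000000,
    0x102000011000000002001020000000000002000000000,
    0x220000000000002000000000000000000000200000000,
    0x100000100011211100000000000000000000000000000,
    0x100021000000000000000000000000010100000000000,
    0x200010022220100212020021010000010110000000,
    0x2210202000200000000200000000002000100100,
    0x211101200001021220002100200220000002012002020]

theorem tab3_some : tab3.K.eqns.all (fun q => (q.tails tab3.P tab3.C).isSome) = true := by decide +kernel

theorem tab3_counts : chkCounts tab3.P counts3 (eqTails tab3.P tab3.C tab3.K) 0 = true := by decide +kernel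

theorem tab3_combos : chkCombos tab3.P tab3.K counts3 = true := by decide +kernel

theorem tab3_tails : tab3.K.check tab3.P tab3.C = true :=
  Cert.check_of_counts tab3_some tab3_counts tab3_combos

theorem pow_free3 : ev Fi22.g (tab3.flat (List.replicate 3 6)) = 1 :=
  (ev_eq_of_agree Fi22.homA (pts := Fi22Mult.basePts3) Fi22.det (w := []) (by decide +kernel) (by decide +kernel)
    (by decide +kernel)).trans rfl

/-- The certificate with one free commutator. -/
theorem sylow3 : ∃ S : SylowExp Cfsg.Spor.Fi22 3, S.m = 3 :=
  haveI := Fi22.finite
  TableCert.sylowExp_levels Fi22.homA (base := Fi22Mult.basePts3) (by decide +kernel) Fi22.det Fi22.card_eq rfl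
    (by decide) tab3_rel tab3_card (by decide +kernel) tab3_tails (j := 6) (i := 5) (by decide +kernel) rfl rfl
    pow_free3 (by decide +kernel)

end Cfsg.Agent.Spor.Cos.Fi22Mult
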