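import Cfsg.Agent.Lib.Spor.Cos.Fi22Mult.Levels
import Cfsg.Agent.Lib.Spor.Cos.Fi22.Order
import Cfsg.Agent.Lib.Spor.Cos.Fi22Mult.Data7


/-! A Sylow 7-subgroup with equations killing the tails. -/

set_option autoImplicit false
set_option maxRecDepth 100000
set_option maxHeartbeats 8000000

open Cfsg.Agent.Spor.Cos Cfsg.Agent.Grp.SchurM.Tails

namespace Cfsg.Agent.Spor.Cos.Fi22Mult

theorem tab7_rel : tab7.chkRel Fi22.actA Fi22Mult.basePts7 = true := by decide +kernel

theorem tab7_card : TableCert.chkLevels tab7 Fi22.actA lev7 [] = true := by decide +kernel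

theorem tab7_tails : tab7.K.check tab7.P tab7.C = true := by decide +kernel

/-- The certificate. -/
theorem sylow7 : Nonempty (SylowCert Cfsg.Spor.Fi22 7) :=
  haveI := Fi22.finite
  TableCert.sylowCert_levels Fi22.homA (base := Fi22Mult.basePts7) (by decide +kernel) Fi22.det Fi22.card_eq rfl
    (by decide) tab7_rel tab7_card (by decide +kernel) tab7_tails (le_of_eq rfl) (by decide +kernel)

end Cfsg.Agent.Spor.Cos.Fi22Mult
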