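import Cfsg.Agent.Lib.Spor.Cos.Fi22Mult.Cover
import Cfsg.Agent.Lib.Spor.Cos.Fi22Mult.Tail2
import Cfsg.Agent.Lib.Spor.Cos.Fi22Mult.Tail3
import Cfsg.Agent.Lib.Spor.Cos.Fi22Mult.Tail5
import Cfsg.Agent.Lib.Spor.Cos.Fi22Mult.Tail7
import Cfsg.Agent.Lib.Spor.Cos.Fi22Mult.Tail11
import Cfsg.Agent.Lib.Spor.Cos.Fi22Mult.Tail13
import Cfsg.Agent.Lib.Spor.Cos.Fi23.Cover
import Cfsg.Agent.Lib.Grp.SchurM.StemProd
import Cfsg.Agent.Lib.Grp.SchurM.SylowBounds

/-! The multiplier of Fi₂₂ is cyclic of order six. -/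

set_option autoImplicit false
set_option maxRecDepth 100000
set_option maxHeartbeats 4000000

open Cfsg Cfsg.Agent.Grp.SchurM Cfsg.Agent.Grp.SchurM.Tails

namespace Cfsg.Agent.Spor.Cos.Fi22Mult

theorem commutator_eq_top : commutator Spor.Fi22 = ⊤ := by
  have := Fi22.isSimple
  refine (IsSimpleGroup.eq_bot_or_eq_top_of_normal (commutator Spor.Fi22) inferInstance).resolve_left fun h => ?_
  have hc := Fi23.centre_fi22
  rw [commutator_def, Subgroup.commutator_eq_bot_iff_le_centralizer] at h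
  have htop : Subgroup.center Spor.Fi22 = ⊤ := eq_top_iff.2 fun x _ => Subgroup.mem_center_iff.2 fun y =>
    (Subgroup.mem_centralizer_iff.1 (h (Subgroup.mem_top x)) y (Subgroup.mem_top y))
  exact bot_ne_top (hc.symm.trans htop)

theorem exists_double : ∃ (Δ : Type) (_ : Group Δ) (_ : Finite Δ) (q : Δ →* Spor.Fi22),
    Cfsg.IsStemExtension q ∧ Nat.card q.ker = 2 := by
  have : Finite Spor.Fi23 := Fi23.finite
  obtain ⟨h2, ⟨e⟩, hns⟩ := Fi23.isNonsplitDoubleCover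
  let H := ↥(val Fi23.g Fi23.lv1W)
  let q : H →* Spor.Fi22 := e.toMonoidHom.comp (QuotientGroup.mk' (Subgroup.center H))
  have hs : Function.Surjective q := e.surjective.comp (QuotientGroup.mk'_surjective _)
  have hker : q.ker = Subgroup.center H := by
    show (e.toMonoidHom.comp (QuotientGroup.mk' (Subgroup.center H))).ker = _
    exact (MonoidHom.ker_mulEquiv_comp _ e).trans (QuotientGroup.ker_mk' _)
  refine ⟨H, inferInstance, inferInstance, q, ⟨hs, hker.le, ?_⟩, by rw [hker, h2]⟩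
  have hmap : (commutator H).map q = ⊤ := by
    rw [commutator_def, Subgroup.map_commutator, Subgroup.map_top_of_surjective q hs, ← commutator_def,
      commutator_eq_top]
  rw [hker]
  by_contra hle
  have : Fact (Nat.Prime 2) := ⟨Nat.prime_two⟩
  have hbot : Subgroup.center H ⊓ commutator H = ⊥ := by
    rcases (Nat.dvd_prime Nat.prime_two).1
      (h2 ▸ Subgroup.card_dvd_of_le (inf_le_left : Subgroup.center H ⊓ commutator H ≤ _)) with hk | hk
    · exact Subgroup.eq_bot_of_card_eq _ hk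
    · exact absurd (inf_eq_left.1 (Subgroup.eq_of_le_of_card_ge inf_le_left ((h2.trans hk.symm).le))) hle
  refine hns (commutator H) (Subgroup.isComplement'_of_disjoint_and_mul_eq_univ (disjoint_iff.2 hbot)
    (Set.eq_univ_of_forall fun x => ?_))
  obtain ⟨y, hy, hyx⟩ : q x ∈ (commutator H).map q := hmap ▸ Subgroup.mem_top _
  exact ⟨x * y⁻¹, hker.le (show q (x * y⁻¹) = 1 by rw [map_mul, map_inv, hyx, mul_inv_cancel]), y, hy,
    inv_mul_cancel_right x y⟩

theorem exists_six : ∃ (Γ : Type) (_ : Group Γ) (_ : Finite Γ) (σ : Γ →* Spor.Fi22),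
    Cfsg.IsStemExtension σ ∧ Nonempty (σ.ker ≃* Multiplicative (ZMod 6)) := by
  obtain ⟨Γ₂, _, _, σ₂, h₂, c₂⟩ := exists_double
  obtain ⟨Γ₃, _, _, σ₃, h₃, c₃⟩ := exists_cover
  obtain ⟨Γ, _, _, σ, hσ, ⟨e⟩⟩ := exists_stem_prod σ₂ σ₃ h₂ h₃ c₂ c₃ (by norm_num)
  have : Fact (Nat.Prime 2) := ⟨Nat.prime_two⟩
  have : Fact (Nat.Prime 3) := ⟨Nat.prime_three⟩
  let k₂ : σ₂.ker ≃* Multiplicative (ZMod 2) := mulEquivOfPrimeCardEq (p := 2) c₂ (by simp)
  let k₃ : σ₃.ker ≃* Multiplicative (ZMod 3) := mulEquivOfPrimeCardEq (p := 3) c₃ (by simp)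
  let c : Multiplicative (ZMod 6) ≃* Multiplicative (ZMod 2) × Multiplicative (ZMod 3) :=
    (AddEquiv.toMultiplicative (ZMod.chineseRemainder (m := 2) (n := 3) (by norm_num)).toAddEquiv).trans
      (MulEquiv.prodMultiplicative (ZMod 2) (ZMod 3))
  exact ⟨Γ, inferInstance, inferInstance, σ, hσ, ⟨(e.trans (k₂.prodCongr k₃)).trans c.symm⟩⟩

theorem exists_gen {Δ : Type} [Group Δ] [Finite Δ] (σ : Δ →* Spor.Fi22) (hσ : Cfsg.IsStemExtension σ) :
    ∃ c ∈ σ.ker, c ^ 6 = 1 ∧ σ.ker ≤ Subgroup.zpowers c := by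
  have := Fi22.finite
  obtain ⟨S, hS⟩ := sylow2
  obtain ⟨T, hT⟩ := sylow3
  have h := exists_gen_of_two S T (by rw [hS, hT]; decide) (fun q hq h2 h3 hd => ?_) σ hσ
  · rwa [hS, hT] at h
  rw [Fi22.card_eq, show 64561751654400 = 2 ^ 17 * 3 ^ 9 * 5 ^ 2 * 7 * 11 * 13 by norm_num] at hd
  have key : ∀ r : ℕ, r.Prime → q ∣ r → q = r := fun r hr h => (Nat.prime_dvd_prime_iff_eq hq hr).1 h
  simp only [hq.dvd_mul] at hd
  rcases hd with ((((hd | hd) | h5) | h7) | h11) | h13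
  · exact absurd (key 2 Nat.prime_two (hq.dvd_of_dvd_pow hd)) h2
  · exact absurd (key 3 Nat.prime_three (hq.dvd_of_dvd_pow hd)) h3
  · obtain rfl := key 5 (by norm_num) (hq.dvd_of_dvd_pow h5); exact sylow5
  · obtain rfl := key 7 (by norm_num) h7; exact sylow7
  · obtain rfl := key 11 (by norm_num) h11; exact sylow11
  · obtain rfl := key 13 (by norm_num) h13; exact sylow13

theorem multiplier : Cfsg.HasCyclicSchurMultiplier Spor.Fi22 6 := by
  refine ⟨exists_six, fun Δ _ _ σ hσ => ?_⟩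
  obtain ⟨c, hc, hc6, hle⟩ := exists_gen σ hσ
  exact exists_surjective_zmod _ c hc hc6 hle

end Cfsg.Agent.Spor.Cos.Fi22Mult
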