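import Cfsg.Agent.Lib.Spor.Cos.Fi22Mult.Rep
import Cfsg.Agent.Lib.Spor.Cos.OutTriple

/-! The common fixed points of a commuting pair and the sum of the shifts there. -/

set_option autoImplicit false
set_option maxRecDepth 100000
set_option maxHeartbeats 4000000

open Cfsg Cfsg.Agent.Spor.Cos Cfsg.Agent.Grp.SchurM

namespace Cfsg.Agent.Spor.Cos.Fi22Mult

/-- The entry of a point. -/
noncomputable def entry (i : ℕ) : Option (ℕ × List ℕ × List ℕ × List ℕ) := fixL.find? fun e => Nat.beq e.1 i

/-- Whether a point is listed. -/
noncomputable def inF (i : ℕ) : Bool := fixL.any fun e => Nat.beq e.1 i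

/-- The word to a point. -/
noncomputable def tW (i : ℕ) : List ℕ := ((entry i).getD (0, [], [], [])).2.1

/-- The part of the first word at a point. -/
noncomputable def uW (i : ℕ) : List ℕ := ((entry i).getD (0, [], [], [])).2.2.1

/-- The part of the second word at a point. -/
noncomputable def wW (i : ℕ) : List ℕ := ((entry i).getD (0, [], [], [])).2.2.2

/-- The base of the group. -/
def basePts : List ℕ := [0, 1, 2, 3, 67, 4, 5, 23]

/-- Two words agree at the base. -/
noncomputable def same (v w : List ℕ) : Bool := Triple.sameW Fi22.actA basePts v w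

/-- An entry is right. -/
noncomputable def chkEntry (i : ℕ) : Bool :=
  Nat.beq (Fi22.actA.go (tW i) 0) i && (tW i).all (fun s => Nat.blt s 9) &&
    (uW i).all (fun s => Nat.blt s 8) && (wW i).all (fun s => Nat.blt s 8) &&
    same (tW i ++ (uW i).map (· + 1)) (pairA ++ tW i) && same (tW i ++ (wW i).map (· + 1)) (pairB ++ tW i)

/-- A point is listed exactly if both words fix it, and then its entry is right. -/
noncomputable def chkPoint (i : ℕ) : Bool :=
  bif inF i then Nat.beq (Fi22.actA.go pairA i) i && Nat.beq (Fi22.actA.go pairB i) i && chkEntry i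
  else !(Nat.beq (Fi22.actA.go pairA i) i && Nat.beq (Fi22.actA.go pairB i) i)

theorem points_ok : ∀ i < 14080, chkPoint i = true :=
  of_blocks (size := 640) (b := 22) (by decide) (by decide) fun j hj => by interval_cases j <;> decide +kernel

/-- The difference of the shifts at a point. -/
noncomputable def valAt (i : ℕ) : ℕ :=
  bif inF i then (signD.trk signD.root (uW i ++ wW i)).2 + (3 - (signD.trk signD.root (wW i ++ uW i)).2 % 3) else 0

theorem value_ne : Nat.beq (((List.range 14080).map valAt).sum % 3) 0 = false := by decide +kernel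

end Cfsg.Agent.Spor.Cos.Fi22Mult
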