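import Cfsg.Agent.Lib.Spor.Cos.Fi22Mult.Rep

/-! The tables of shifts are consistent. -/

set_option autoImplicit false
set_option maxRecDepth 100000
set_option maxHeartbeats 4000000

open Cfsg Cfsg.Agent.Spor.Cos Cfsg.Agent.Grp.SchurM

namespace Cfsg.Agent.Spor.Cos.Fi22Mult

theorem okD : signD.OkCyc where
  one_lt := by decide
  root_lt := by decide
  step := of_blocks (size := 14) (b := 27) (by decide) (by decide) fun j hj => by interval_cases j <;> decide +kernel
  apart := of_blocks (size := 54) (b := 7) (by decide) (by decide) fun j hj => by interval_cases j <;> decide +kernel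
  pred := of_blocks (size := 378) (b := 1) (by decide) (by decide) fun j hj => by interval_cases j <;> decide +kernel

end Cfsg.Agent.Spor.Cos.Fi22Mult
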