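import Cfsg.Agent.Lib.Grp.SchurM.TransferFixed
import Cfsg.Agent.Lib.Spor.Cos.Fi22Mult.Sign
import Cfsg.Agent.Lib.Spor.Cos.Fi22Mult.Pair

/-! A triple cover by transfer from the point stabiliser. -/

set_option autoImplicit false
set_option maxRecDepth 100000
set_option maxHeartbeats 4000000

open Cfsg Cfsg.Agent.Spor.Cos Cfsg.Agent.Grp.SchurM

namespace Cfsg.Agent.Spor.Cos.Fi22Mult

theorem det0 (y : Spor.Fi22) (h : ∀ q : Fin Fi22.actA.N, (q : ℕ) ∈ basePts → Fi22.piA y q = q) : y = 1 :=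
  Fi22.det y h

theorem eq_of_same {v w : List ℕ} (h : same v w = true) : ev Fi22.g v = ev Fi22.g w :=
  Triple.eq_of_sameW Fi22.homA det0 h

instance : NeZero signD.p := ⟨by decide⟩

instance : Finite O7.P := O7.finite

instance : Finite Spor.Fi22 := Fi22.finite

/-- The cover of the stabiliser. -/
abbrev Cov : Type _ := ↥(signD.cov O7.g piD)

/-- The root. -/
def rootD : signD.Pt := ⟨signD.root, okD.root_lt⟩

/-- The cover, seen in the whole group. -/
noncomputable def rho : Cov →* Spor.Fi22 := inc.comp (signD.proj O7.g piD)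

theorem proj_of_rho {z : Cov} (h : rho z = 1) : signD.proj O7.g piD z = 1 :=
  inc_injective (h.trans (map_one inc).symm)

theorem rho_central : rho.ker ≤ Subgroup.center Cov := fun z hz => Subgroup.mem_center_iff.2 fun v => by
  obtain ⟨d, hd⟩ := okD.const_of_mem homD homC rfl z.2 (proj_of_rho hz)
  obtain ⟨τ, k1, -⟩ := okD.good_of_mem homD homC rfl v.2
  refine Subtype.ext (Prod.ext ?_ ?_)
  · show v.1.1 * z.1.1 = z.1.1 * v.1.1
    rw [hd, k1, SignTab.lift_mul, SignTab.lift_mul, mul_one, one_mul]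
    congr 1
    funext x
    simp only [map_one, Equiv.Perm.one_apply, add_comm]
  · show v.1.2 * z.1.2 = z.1.2 * v.1.2
    rw [show z.1.2 = 1 from proj_of_rho hz, mul_one, one_mul]

/-- The shift of a kernel element. -/
noncomputable def chi : rho.ker →* Multiplicative (ZMod 3) where
  toFun z := Multiplicative.ofAdd (SignTab.kval rootD z.1 : ZMod signD.p)
  map_one' := rfl
  map_mul' a b :=
    (congrArg Multiplicative.ofAdd (okD.kval_mul homD homC rfl rootD (proj_of_rho a.2) (proj_of_rho b.2))).trans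
      (ofAdd_add _ _)

/-- The lift of a word, if its letters are in range. -/
noncomputable def wl (v : List ℕ) : Cov :=
  if hv : ∀ x ∈ v, x < 8 then SignTab.wordLift signD O7.g piD v hv else 1

theorem rho_wl {v : List ℕ} (hv : ∀ x ∈ v, x < 8) : rho (wl v) = ev Fi22.g (v.map (· + 1)) := by
  rw [wl, dif_pos hv, rho, MonoidHom.comp_apply, SignTab.proj_wordLift (S := signD) hv, inc_ev v hv]

theorem wl_mul {v w : List ℕ} (hv : ∀ x ∈ v, x < 8) (hw : ∀ x ∈ w, x < 8) : wl v * wl w = wl (v ++ w) := by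
  have h : ∀ x ∈ v ++ w, x < 8 := fun x hx => (List.mem_append.1 hx).elim (hv x) (hw x)
  rw [wl, wl, wl, dif_pos hv, dif_pos hw, dif_pos h]
  exact Subtype.ext (ev_append (signD.xs O7.g piD) v w).symm

/-- The listed points. -/
noncomputable def fixF : Finset (Fin Fi22.actA.N) := Finset.univ.filter fun i => inF i.1 = true

theorem mem_fixF {i : Fin Fi22.actA.N} : i ∈ fixF ↔ inF i.1 = true := by simp [fixF]

theorem pair_lt : (∀ s ∈ pairA, s < 9) ∧ ∀ s ∈ pairB, s < 9 := by decide +kernel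

theorem entry_spec {i : Fin Fi22.actA.N} (hi : i ∈ fixF) :
    Fi22.piA (ev Fi22.g (tW i.1)) Fi22.baseA = i ∧ (∀ x ∈ uW i.1, x < 8) ∧ (∀ x ∈ wW i.1, x < 8) ∧
      rho (wl (uW i.1)) = (ev Fi22.g (tW i.1))⁻¹ * ev Fi22.g pairA * ev Fi22.g (tW i.1) ∧
      rho (wl (wW i.1)) = (ev Fi22.g (tW i.1))⁻¹ * ev Fi22.g pairB * ev Fi22.g (tW i.1) := by
  have h := points_ok i.1 i.2
  rw [chkPoint, mem_fixF.1 hi] at h
  simp only [cond_true, chkEntry, Bool.and_eq_true, List.all_eq_true] at h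
  obtain ⟨-, ⟨⟨⟨⟨ht, htl⟩, hu⟩, hw⟩, hsu⟩, hsw⟩ := h
  have hu' : ∀ x ∈ uW i.1, x < 8 := fun x hx => Nat.le_of_ble_eq_true (hu x hx)
  have hw' : ∀ x ∈ wW i.1, x < 8 := fun x hx => Nat.le_of_ble_eq_true (hw x hx)
  refine ⟨Fin.ext ((Fi22.homA.apply_ev _ (fun x hx => Nat.le_of_ble_eq_true (htl x hx)) _).trans
    (Nat.eq_of_beq_eq_true ht)), hu', hw', ?_, ?_⟩
  · rw [rho_wl hu', mul_assoc, eq_inv_mul_iff_mul_eq, ← ev_append, ← ev_append, eq_of_same hsu]
  · rw [rho_wl hw', mul_assoc, eq_inv_mul_iff_mul_eq, ← ev_append, ← ev_append, eq_of_same hsw]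

theorem pair_eqs : ev Fi22.g pairA * ev Fi22.g pairB = ev Fi22.g pairB * ev Fi22.g pairA ∧
    ev Fi22.g pairA ^ 3 = 1 ∧ ev Fi22.g pairB ^ 3 = 1 := by
  have cube : ∀ w : List ℕ, ev Fi22.g w ^ 3 = ev Fi22.g (w ++ (w ++ w)) := fun w => by
    rw [ev_append, ev_append, pow_succ, pow_succ, pow_one, mul_assoc]
  refine ⟨?_, ?_, ?_⟩
  · rw [← ev_append, ← ev_append]; exact eq_of_same (by decide +kernel)
  · rw [cube]; exact (eq_of_same (w := []) (by decide +kernel)).trans rfl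
  · rw [cube]; exact (eq_of_same (w := []) (by decide +kernel)).trans rfl

theorem quot_mem {i : Fin Fi22.actA.N} (hi : i ∈ fixF) :
    wl (uW i.1 ++ wW i.1) * (wl (wW i.1 ++ uW i.1))⁻¹ ∈ rho.ker := by
  obtain ⟨-, hu, hw, eu, ew⟩ := entry_spec hi
  rw [MonoidHom.mem_ker, ← wl_mul hu hw, ← wl_mul hw hu, map_mul, map_inv, mul_inv_eq_one, map_mul, map_mul, eu, ew]
  calc _ = (ev Fi22.g (tW i.1))⁻¹ * (ev Fi22.g pairA * ev Fi22.g pairB) * ev Fi22.g (tW i.1) := by group
    _ = _ := by rw [pair_eqs.1]; group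

/-- The central part at a point. -/
noncomputable def zAt (i : Fin Fi22.actA.N) : rho.ker := if h : i ∈ fixF then ⟨_, quot_mem h⟩ else 1

theorem chi_zAt (i : Fin Fi22.actA.N) : chi (zAt i) = Multiplicative.ofAdd (valAt i.1 : ZMod 3) := by
  by_cases hi : i ∈ fixF
  swap
  · rw [zAt, dif_neg hi, valAt, Bool.eq_false_iff.2 fun h => hi (mem_fixF.2 h), cond_false, Nat.cast_zero,
      map_one, ofAdd_zero]
  obtain ⟨-, hu, hw, -, -⟩ := entry_spec hi
  rw [zAt, dif_pos hi]
  refine congrArg Multiplicative.ofAdd ?_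
  have huw : ∀ x ∈ uW i.1 ++ wW i.1, x < 8 := fun x hx => (List.mem_append.1 hx).elim (hu x) (hw x)
  have hwu : ∀ x ∈ wW i.1 ++ uW i.1, x < 8 := fun x hx => (List.mem_append.1 hx).elim (hw x) (hu x)
  set U := wl (uW i.1 ++ wW i.1) with hU
  set W := wl (wW i.1 ++ uW i.1) with hW
  obtain ⟨d, hd⟩ := okD.const_of_mem homD homC rfl (U * W⁻¹).2 (proj_of_rho (quot_mem hi))
  have e1 : (U.1.1 (rootD, 0)).2 = ((signD.trk signD.root (uW i.1 ++ wW i.1)).2 : ZMod signD.p) := by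
    rw [hU, wl, dif_pos huw]; exact (SignTab.trk_spec homD _ huw rootD).2
  have e2 : (W.1.1 (rootD, 0)).2 = ((signD.trk signD.root (wW i.1 ++ uW i.1)).2 : ZMod signD.p) := by
    rw [hW, wl, dif_pos hwu]; exact (SignTab.trk_spec homD _ hwu rootD).2
  have h : U.1.1 (rootD, 0) = (U * W⁻¹).1.1 (W.1.1 (rootD, 0)) := by
    rw [← Equiv.Perm.mul_apply, ← Prod.fst_mul, ← Subgroup.coe_mul, inv_mul_cancel_right]
  rw [hd, SignTab.lift_apply] at h
  have h' : (U.1.1 (rootD, 0)).2 = (W.1.1 (rootD, 0)).2 + d := congrArg Prod.snd h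
  rw [e1, e2] at h'
  show ((U * W⁻¹).1.1 (rootD, 0)).2 = _
  rw [hd, SignTab.lift_apply, zero_add]
  show d = ((valAt i.1 : ℕ) : ZMod 3)
  rw [valAt, mem_fixF.1 hi, cond_true, Nat.cast_add, Nat.cast_sub (Nat.mod_lt _ (by norm_num)).le, ZMod.natCast_mod,
    ZMod.natCast_self, zero_sub, ← sub_eq_add_neg]
  exact eq_sub_of_add_eq ((add_comm _ _).trans h'.symm)

open Classical in
/-- A word to each point, the listed ones at the listed points. -/
noncomputable def tt (i : Fin Fi22.actA.N) : Spor.Fi22 :=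
  if i ∈ fixF then ev Fi22.g (tW i.1) else (Fi22.trA i).choose

theorem exists_cover : ∃ (Δ : Type) (_ : Group Δ) (_ : Finite Δ) (q : Δ →* Spor.Fi22),
    Cfsg.IsStemExtension q ∧ Nat.card q.ker = 3 := by
  have : Finite (Equiv.Perm signD.Sheet × O7.P) := okD.finite
  refine exists_stem_transfer_fixed Nat.prime_three Nat.prime_three Fi22.piA rho rho_central chi Fi22.baseA
    (fun y hy => ?_) tt (fun i => ?_) pair_eqs.1 pair_eqs.2.1 pair_eqs.2.2 fixF (fun i => ?_)
    (fun i => wl (uW i.1)) (fun i => wl (wW i.1)) (fun i hi => ?_) (fun i hi => ?_) zAt (fun i hi => ?_) ?_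
  · have hy' : y ∈ inc.range := inc_range.symm ▸ hy
    obtain ⟨x, rfl⟩ := hy'
    have hs : Function.Surjective (signD.proj O7.g piD) := by
      rw [← MonoidHom.range_eq_top, eq_top_iff, ← O7.g_gen, Subgroup.closure_le]
      rintro _ ⟨s, hs, rfl⟩
      refine ⟨SignTab.wordLift signD O7.g piD [s] (fun t ht => (List.mem_singleton.1 ht) ▸ hs), ?_⟩
      rw [SignTab.proj_wordLift]; exact mul_one _
    obtain ⟨c, rfl⟩ := hs x
    exact ⟨c, rfl⟩
  · by_cases hi : i ∈ fixF
    · rw [tt, if_pos hi]; exact (entry_spec hi).1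
    · rw [tt, if_neg hi]; exact (Fi22.trA i).choose_spec
  · have h := points_ok i.1 i.2
    have e : ∀ {w : List ℕ}, (∀ s ∈ w, s < 9) → (Fi22.piA (ev Fi22.g w) i = i ↔ Nat.beq (Fi22.actA.go w i.1) i.1 = true) :=
      fun {w} hw => by rw [Fin.ext_iff, Fi22.homA.apply_ev w hw i, Nat.beq_eq]
    rw [e pair_lt.1, e pair_lt.2, mem_fixF]
    cases hb : inF i.1 with
    | true =>
      rw [chkPoint, hb] at h
      simp only [cond_true, Bool.and_eq_true] at h
      exact ⟨fun _ => h.1, fun _ => rfl⟩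
    | false =>
      rw [chkPoint, hb] at h
      simp only [cond_false, Bool.not_eq_true', ← Bool.not_eq_true, Bool.and_eq_true] at h
      exact ⟨fun hh => absurd hh Bool.false_ne_true, fun hh => absurd hh h⟩
  · rw [tt, if_pos hi]; exact (entry_spec hi).2.2.2.1
  · rw [tt, if_pos hi]; exact (entry_spec hi).2.2.2.2
  · obtain ⟨-, hu, hw, -, -⟩ := entry_spec hi
    rw [zAt, dif_pos hi, wl_mul hu hw, wl_mul hw hu]
    exact inv_mul_cancel_right _ _
  · rw [Finset.prod_congr rfl fun i _ => chi_zAt i, ← ofAdd_sum, ← Nat.cast_sum, Ne, ofAdd_eq_one,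
      ZMod.natCast_eq_zero_iff, Nat.dvd_iff_mod_eq_zero]
    intro h
    have hsum : (∑ i ∈ fixF, valAt i.1) = ((List.range 14080).map valAt).sum := by
      rw [Finset.sum_subset (Finset.subset_univ fixF) fun i _ hi => by
        rw [valAt, Bool.eq_false_iff.2 fun h => hi (mem_fixF.2 h), cond_false]]
      exact Fin.sum_univ_eq_sum_range valAt 14080
    rw [hsum] at h
    exact Bool.false_ne_true (value_ne.symm.trans (h ▸ Nat.beq_refl 0))

end Cfsg.Agent.Spor.Cos.Fi22Mult
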