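import Cfsg.Agent.Lib.Spor.Cos.Fi23Mult.Levels

/-! Sylow certificates with a free commutator and transversals at any points. -/

set_option autoImplicit false

open Cfsg.Agent.Spor.Cos

namespace Cfsg.Agent.Grp.SchurM.Tails.TableCert

variable {S : TableCert} {A : Act} {base : List ℕ}
variable {G : Type*} [Group G] {g : ℕ → G} {π : G →* Equiv.Perm (Fin A.N)}

/-- The certificate with one free commutator, with transversals at any points. -/
theorem sylowExp_levels (hA : A.Hom g π) (hb : ∀ b ∈ base, b < A.N)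
    (det : ∀ y : G, (∀ q : Fin A.N, (q : ℕ) ∈ base → π y q = q) → y = 1) [Finite G] {L : List (ℕ × List (List ℕ))} {p N : ℕ} (hN : Nat.card G = N)
    (hp : S.P.p = p) (hp0 : 0 < p) (hr : S.chkRel A base = true) (hc : chkLevels S A L [] = true)
    (hprod : (L.map fun l => l.2.length).prod = S.P.p ^ S.P.n)
    (hk : S.K.check S.P S.C = true) {j i : ℕ} (hji : i < j ∧ j < S.P.n)
    (hf : S.K.free = tri j i) (hcm : S.P.rule j i = [i, j]) {m : ℕ} (hpj : ev g (S.flat (List.replicate m j)) = 1) (hi : N / p ^ S.P.n % p ≠ 0) :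
    ∃ T : SylowExp G p, T.m = m := by
  simp only [chkRel, Bool.and_eq_true, List.all_eq_true, List.mem_range] at hr
  obtain ⟨⟨⟨hl1, hl2⟩, hrels⟩, hconj⟩ := hr
  have hfl := fun w => letters_flat (S := S) hl1 w
  have rels : ∀ j < S.P.n, ∀ i ≤ j, evL (S.elem g) (S.P.rule j i) = lhsV S.P (S.elem g) j i := by
    intro j hj i hij
    have h := eq_of_agree hA hb det (hfl _) (hfl _) (hrels j hj i (Nat.lt_succ_of_le hij))
    rw [ev_flat, ev_flat] at h
    rw [h, lhsV, PC.lhs]
    split_ifs
    · next he => subst he; exact evL_replicate (S.elem g) _ _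
    · simp [evL]
  set H := Subgroup.closure (S.elem g '' {k | k < S.P.n})
  have hwf : S.P.wellFormed = true := by
    have h := hk
    simp only [Cert.check, Bool.and_eq_true] at h
    exact h.1.1.1
  have hpp : 0 < S.P.p := hp ▸ hp0
  have hup : Nat.card H ≤ p ^ S.P.n := by
    have h := card_upper (P := S.P) hwf hpp (S.elem g) (z := (1 : G)) (one_mem _)
      (fun j hj i hij => by rw [rels j hj i hij, inv_mul_cancel]; exact one_mem _) _ _ (zero_add _)
    rw [Subgroup.zpowers_one_eq_bot, Subgroup.card_bot, one_mul, hp] at h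
    refine le_trans (le_of_eq ?_) h
    rw [upper, Set.singleton_union, Subgroup.closure_insert_one]
    simp only [Nat.zero_le, true_and]
    rfl
  have hdown : p ^ S.P.n ≤ Nat.card H := hp ▸ hprod ▸ le_card_of_levels hA hl1 L [] hc _ fun x hx _ => hx
  have hpow : S.elem g j ^ m = 1 := by
    rw [← hpj, ev_flat]; exact (evL_replicate (S.elem g) _ _).symm
  refine ⟨⟨S.P, S.elem g, fun m => ev g (S.gws.getD m []), S.C, S.K, j, i, hp, rels, fun c hc' => ?_, hk, hji.1,
    hji.2, hf, hcm, m, hpow, hdown,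
    fun hdvd => hi ?_⟩, rfl⟩
  · have h := eq_of_agree hA hb det (u := S.gws.getD c.1 [] ++ S.flat c.2.1)
      (v := S.flat c.2.2 ++ S.gws.getD c.1 [])
      (fun s hs => (List.mem_append.1 hs).elim (letters_getD hl2 _ s) (hfl _ s))
      (fun s hs => (List.mem_append.1 hs).elim (hfl _ s) (letters_getD hl2 _ s)) (hconj c hc')
    rwa [ev_append, ev_append, ev_flat, ev_flat] at h
  · have hH : Nat.card H = p ^ S.P.n := le_antisymm hup hdown
    have hmul := H.card_mul_index
    rw [hH, hN] at hmul
    rw [← hmul, Nat.mul_div_cancel_left _ (pow_pos (hp ▸ hpp) _)]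
    exact Nat.dvd_iff_mod_eq_zero.1 hdvd

end Cfsg.Agent.Grp.SchurM.Tails.TableCert
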