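import Cfsg.Agent.Lib.Grp.SchurM.SignValue
import Cfsg.Agent.Lib.Spor.Cos.O7.Order
import Cfsg.Agent.Lib.Spor.Cos.Fi22.Order
import Cfsg.Agent.Lib.Spor.Cos.Fi22Mult.CoverData

/-! The point stabiliser as a presented group, and its action on 378 objects with shifts. -/

set_option autoImplicit false
set_option maxRecDepth 100000
set_option maxHeartbeats 4000000

open Cfsg Cfsg.Agent.Spor.Cos Cfsg.Agent.Grp.SchurM

namespace Cfsg.Agent.Spor.Cos.Fi22Mult

theorem actD_inv : ∀ p < actD.N, actD.chkInv p = true :=
  of_blocks (size := 378) (b := 1) (by decide) (by decide) fun j hj => by interval_cases j <;> decide +kernel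

theorem actD_rels : ∀ p < actD.N, actD.chkFix O7.words p = true :=
  of_blocks (size := 63) (b := 6) (by decide) (by decide) fun j hj => by interval_cases j <;> decide +kernel

theorem exists_homD : ∃ π : O7.P →* Equiv.Perm (Fin actD.N), ∀ s, π (O7.g s) = actD.perm s :=
  O7.pres.exists_hom actD.perm actD.perm_sq (actD.ev_rels actD_inv (by decide +kernel) actD_rels) actD.perm_out

/-- The tables modulo three. -/
def signD : SignTab := ⟨actD, 3, actOne, sgD, edD, 1, paD, 0⟩

/-- The action on the objects. -/
noncomputable def piD : O7.P →* Equiv.Perm (Fin signD.B.N) := exists_homD.choose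

theorem homD : signD.B.Hom O7.g piD := ⟨actD_inv, exists_homD.choose_spec⟩

theorem homC : signD.C.Hom O7.g (1 : O7.P →* Equiv.Perm (Fin signD.C.N)) := by
  refine ⟨?_, fun s => Equiv.ext fun p => ?_⟩
  · show ∀ p < actOne.N, actOne.chkInv p = true
    decide +kernel
  · have : Subsingleton (Fin signD.C.N) := inferInstanceAs (Subsingleton (Fin 1))
    exact Subsingleton.elim _ _

/-- A letter of the stabiliser as a generator of the group. -/
noncomputable def img (s : ℕ) : Spor.Fi22 := if s < 8 then Fi22.g (s + 1) else 1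

theorem ev_img : ∀ w : List ℕ, (∀ s ∈ w, s < 8) → ev img w = ev Fi22.g (w.map (· + 1))
  | [], _ => rfl
  | s :: w, h => by
    show img s * ev img w = Fi22.g (s + 1) * ev Fi22.g (w.map (· + 1))
    rw [ev_img w fun t ht => h t (List.mem_cons_of_mem _ ht), img, if_pos (h s (List.mem_cons_self ..))]

theorem o7_words_img : ∀ w ∈ O7.words, ev img w = 1 := by
  have h : (O7.words.all fun w => (w.all fun s => Nat.blt s 8) && derivedOk 9 Fi22.words (w.map (· + 1))) = true := by
    decide +kernel
  intro w hw
  have := List.all_eq_true.1 h w hw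
  simp only [Bool.and_eq_true, List.all_eq_true] at this
  rw [ev_img w fun s hs => Nat.le_of_ble_eq_true (this.1 s hs)]
  exact ev_derived (fun t _ => Fi22.g_sq t) Fi22.g_words this.2

theorem img_sq (s : ℕ) : img s * img s = 1 := by
  rw [img]; split_ifs
  · exact Fi22.g_sq _
  · exact one_mul _

theorem exists_inc : ∃ π : O7.P →* Spor.Fi22, ∀ s, π (O7.g s) = img s :=
  O7.pres.exists_hom img img_sq o7_words_img fun s hs => if_neg (Nat.not_lt.2 hs)

/-- The inclusion. -/
noncomputable def inc : O7.P →* Spor.Fi22 := exists_inc.choose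

theorem inc_ev (w : List ℕ) (hw : ∀ s ∈ w, s < 8) : inc (ev O7.g w) = ev Fi22.g (w.map (· + 1)) := by
  rw [ev_map inc O7.g w, show (fun s => inc (O7.g s)) = img from funext exists_inc.choose_spec, ev_img w hw]

theorem inc_range : inc.range = stab Fi22.piA Fi22.baseA := by
  rw [← Fi22.stabA, MonoidHom.range_eq_map, ← O7.g_gen, MonoidHom.map_closure]
  show _ = Subgroup.closure {y | ∃ w ∈ Fi22.lv1W, ev Fi22.g w = y}
  congr 1
  ext y
  simp only [Set.mem_image, Set.mem_setOf_eq]
  constructor
  · rintro ⟨x, ⟨s, hs, rfl⟩, rfl⟩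
    refine ⟨[s + 1], by interval_cases s <;> decide, ?_⟩
    rw [inc, exists_inc.choose_spec s, img, if_pos hs]; exact mul_one _
  · rintro ⟨w, hw, rfl⟩
    simp only [Fi22.lv1W, List.mem_cons, List.not_mem_nil, or_false] at hw
    have key : ∀ t, 1 ≤ t → t < 9 → ∃ x, (∃ s < 8, O7.g s = x) ∧ inc x = ev Fi22.g [t] := fun t h1 h2 => by
      refine ⟨_, ⟨t - 1, by omega, rfl⟩, (exists_inc.choose_spec _).trans ?_⟩
      rw [img, if_pos (by omega), Nat.sub_add_cancel h1]
      exact (mul_one _).symm
    rcases hw with rfl | rfl | rfl | rfl | rfl | rfl | rfl | rfl <;> exact key _ (by decide) (by decide)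

theorem inc_injective : Function.Injective inc := by
  have := O7.finite
  have hc : Nat.card inc.range = Nat.card O7.P := by
    rw [inc_range, O7.card_eq, card_stab Fi22.trA (k := 4585351680) Fi22.card_eq]
  exact fun x y e => ((Nat.bijective_iff_surjective_and_card inc.rangeRestrict).2
    ⟨inc.rangeRestrict_surjective, hc.symm⟩).1 (Subtype.ext e)

end Cfsg.Agent.Spor.Cos.Fi22Mult
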